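import Groth.Agent.Lib.Hens.PairApi
import Groth.Agent.Lib.Hens.Noetherian

/-!
Henselizations of Noetherian pairs are Noetherian, and have the same completion.
-/

open scoped TensorProduct

namespace Groth.Agent.HensH7

universe u

open Hens

variable {R : Type u} [CommRing R] {I : Ideal R}

theorem flat_of_flat_base (M : Type u) [AddCommGroup M] [Module R M] [Module (PHs I) M]
    [IsScalarTower R (PHs I) M] [Module.Flat R M] : Module.Flat (PHs I) M := by
  refine Module.Flat.iff_forall_isTrivialRelation.mpr ?_
  intro l c x hx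
  obtain ⟨i, hi⟩ := PHs.exists_of_finset Finset.univ c
  choose y hy using hi
  let _ : Module i.G M := Module.compHom M (PHs.of i).toRingHom
  have : IsScalarTower R i.G M := ⟨fun r g m => by
    show PHs.of i (r • g) • m = r • PHs.of i g • m
    rw [map_smul, smul_assoc]⟩
  have : Algebra.FormallyEtale i.S i.G := Algebra.FormallyEtale.of_isLocalization i.M
  have : Algebra.EssFiniteType i.S i.G := Algebra.EssFiniteType.of_isLocalization i.G i.M
  have : Algebra.FormallyEtale R i.G := Algebra.FormallyEtale.comp R i.S i.G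
  have : Algebra.EssFiniteType R i.G := Algebra.EssFiniteType.comp R i.S i.G
  have : Module.Flat i.G M := Algebra.FormallyUnramified.flat_of_restrictScalars R i.G M
  have h0 : ∑ a, y a (Finset.mem_univ a) • x a = 0 := by
    rw [← hx]
    exact Finset.sum_congr rfl fun a _ => by
      show PHs.of i (y a _) • x a = c a • x a
      rw [hy]
  obtain ⟨m, α, w, hw, hα⟩ :=
    (Module.Flat.iff_forall_isTrivialRelation (R := i.G) (M := M)).mp inferInstance h0
  refine ⟨m, fun a b => PHs.of i (α a b), w, fun a => hw a, fun b => ?_⟩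
  rw [← map_zero (PHs.of i), ← hα b, map_sum]
  exact Finset.sum_congr rfl fun a _ => by rw [map_mul, hy]

section Completion

variable {H : Type u} [CommRing H] [Algebra R H]

theorem flat_adicCompletion [IsNoetherianRing R] (J : Ideal R) (hJ : (J.map (algebraMap R H)).FG)
    [IsNoetherianRing (AdicCompletion (J.map (algebraMap R H)) H)] [Module.Flat R H] :
    Module.Flat R (AdicCompletion (J.map (algebraMap R H)) H) := by
  let K := J.map (algebraMap R H)
  have := AdicCompletion.isAdicComplete_self K hJ
  refine FlatH4.flat_of_forall_flat_quotient_pow (S := AdicCompletion K H) J ?_ fun n _ => ?_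
  · rw [IsScalarTower.algebraMap_eq R H (AdicCompletion K H), ← Ideal.map_map]
    exact IsAdicComplete.le_jacobson_bot _
  · let ev := (AdicCompletion.eval K H n).restrictScalars R
    have hev : Function.Surjective ev := AdicCompletion.eval_surjective K H n
    have hker : (J ^ n • ⊤ : Submodule R (AdicCompletion K H)) = LinearMap.ker ev := by
      rw [LinearMap.ker_restrictScalars, ← AdicCompletion.pow_smul_top_eq_ker_eval hJ,
        ← Ideal.map_pow, Ideal.smul_restrictScalars, Submodule.restrictScalars_top]
    have hH : (J ^ n • ⊤ : Submodule R H) = (K ^ n • ⊤ : Submodule H H).restrictScalars R := by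
      rw [← Ideal.map_pow, Ideal.smul_restrictScalars, Submodule.restrictScalars_top]
    let e : ((R ⧸ J ^ n) ⊗[R] AdicCompletion K H) ≃ₗ[R] (R ⧸ J ^ n) ⊗[R] H :=
      TensorProduct.quotTensorEquivQuotSMul _ (J ^ n) ≪≫ₗ Submodule.quotEquivOfEq _ _ hker ≪≫ₗ
      ev.quotKerEquivOfSurjective hev ≪≫ₗ
      (Submodule.Quotient.restrictScalarsEquiv R (K ^ n • ⊤ : Submodule H H)).symm ≪≫ₗ
      Submodule.quotEquivOfEq _ _ hH.symm ≪≫ₗ
      (TensorProduct.quotTensorEquivQuotSMul _ (J ^ n)).symm
    exact Module.Flat.of_linearEquiv (e.extendScalarsOfSurjective Ideal.Quotient.mk_surjective)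

end Completion

theorem isNoetherianRing_pHs [IsNoetherianRing R] : IsNoetherianRing (PHs I) := by
  let J := I.map (algebraMap R (PHs I))
  have hJ : J.FG := Ideal.FG.map (IsNoetherian.noetherian I) _
  let C := AdicCompletion J (PHs I)
  have hb := Hens.IsPairHenselization.quotientMap_bijective PHs.isPairHenselization I Ideal.le_radical
  have : IsNoetherianRing (PHs I ⧸ J) :=
    isNoetherianRing_of_ringEquiv (R ⧸ I) (RingEquiv.ofBijective _ hb)
  have : IsNoetherianRing C := Compl.isNoetherianRing_adicCompletion _ hJ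
  have : Module.Flat R C := flat_adicCompletion (H := PHs I) I hJ
  have : Module.Flat (PHs I) C := flat_of_flat_base (R := R) (I := I) C
  have : Module.FaithfullyFlat (PHs I) C := by
    refine ⟨fun m hm htop => ?_⟩
    rw [Ideal.smul_top_eq_map, Submodule.restrictScalars_eq_top_iff] at htop
    have hle : J ≤ m := (PHs.le_jacobson).trans (sInf_le ⟨bot_le, hm⟩)
    let φ : C →+* PHs I ⧸ m :=
      (Ideal.Quotient.factor hle).comp (AdicCompletion.evalOneₐ J).toRingHom
    have hφ : m.map (algebraMap (PHs I) C) ≤ RingHom.ker φ := by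
      refine Ideal.map_le_iff_le_comap.mpr fun z hz => ?_
      rw [Ideal.mem_comap, RingHom.mem_ker]
      show Ideal.Quotient.factor hle (AdicCompletion.evalOneₐ J (algebraMap (PHs I) C z)) = 0
      rw [AlgHom.commutes, Ideal.Quotient.algebraMap_eq, Ideal.Quotient.factor_mk,
        Ideal.Quotient.eq_zero_iff_mem]
      exact hz
    rw [htop] at hφ
    have h1 : φ 1 = 0 := RingHom.mem_ker.mp (hφ Submodule.mem_top)
    rw [map_one] at h1
    exact hm.ne_top (Ideal.eq_top_iff_one m |>.mpr (Ideal.Quotient.eq_zero_iff_mem.mp h1))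
  exact Hens.isNoetherianRing_of_faithfullyFlat _ C

theorem completion_map_bijective {B : Type u} [CommRing B] [Algebra R B]
    (hB : Hens2.IsPairHenselization R I B) :
    Function.Bijective (AdicCompletion.map I (Algebra.linearMap R B) :
      AdicCompletion I R → AdicCompletion I B) := by
  have hn : ∀ n : ℕ, Function.Bijective ((Algebra.linearMap R B).reduceModIdeal (I ^ n)) := by
    intro n
    have hb := Hens.IsPairHenselization.quotientMap_bijective hB (I ^ n)
      (fun x hx => ⟨n, Ideal.pow_mem_pow hx n⟩)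
    refine ⟨(injective_iff_map_eq_zero _).mpr fun x hx => ?_, fun y => ?_⟩
    · obtain ⟨r, rfl⟩ := Submodule.mkQ_surjective _ x
      have hx' : algebraMap R B r ∈ (I ^ n • ⊤ : Submodule R B) :=
        (Submodule.Quotient.mk_eq_zero _).mp hx
      rw [Ideal.smul_top_eq_map, Submodule.restrictScalars_mem] at hx'
      have : Ideal.Quotient.mk (I ^ n) r = 0 := hb.1 (by
        rw [Ideal.quotientMap_mk, map_zero, Ideal.Quotient.eq_zero_iff_mem]; exact hx')
      refine (Submodule.Quotient.mk_eq_zero _).mpr ?_
      rw [smul_eq_mul, Ideal.mul_top]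
      exact Ideal.Quotient.eq_zero_iff_mem.mp this
    · obtain ⟨b, rfl⟩ := Submodule.mkQ_surjective _ y
      obtain ⟨x, hx⟩ := hb.2 (Ideal.Quotient.mk _ b)
      obtain ⟨r, rfl⟩ := Ideal.Quotient.mk_surjective x
      refine ⟨Submodule.mkQ _ r, (Submodule.Quotient.eq _).mpr ?_⟩
      rw [Ideal.smul_top_eq_map, Submodule.restrictScalars_mem]
      exact Ideal.Quotient.eq.mp hx
  refine ⟨fun x y h => AdicCompletion.ext fun n => (hn n).1 (congrArg (fun z => z.val n) h), fun y => ?_⟩
  choose x hx using fun n => (hn n).2 (y.val n)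
  refine ⟨⟨x, fun {m n} hmn => (hn m).1 ?_⟩, AdicCompletion.ext fun n => hx n⟩
  rw [hx, ← y.2 hmn, ← hx n]
  exact (congr($(AdicCompletion.transitionMap_comp_reduceModIdeal I (Algebra.linearMap R B) hmn) (x n))).symm

end Groth.Agent.HensH7
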