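import Groth.Agent.Lib.Hens.Local
import Groth.Agent.Lib.Hens.EssEtale
import Mathlib.FieldTheory.PurelyInseparable.Basic

/-!
Domains integral over henselian local rings.
-/

open IsLocalRing

namespace Groth.Agent.HensH7

universe u

variable {A B : Type u} [CommRing A] [HenselianLocalRing A] [CommRing B] [IsDomain B] [Algebra A B]
  [Algebra.IsIntegral A B]

theorem subsingleton_maximalSpectrum (C : Type u) [CommRing C] [IsDomain C] [Algebra A C]
    [Module.Finite A C] : Subsingleton (MaximalSpectrum C) := by
  classical
  refine ⟨fun n₁ n₂ => by_contra fun hne => ?_⟩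
  obtain ⟨e, he⟩ := (Hens.bijective_pi_localization_of_henselian (A := A) (B := C)).2
    (Pi.single n₁ 1)
  have hidem : IsIdempotentElem e := by
    refine (Hens.bijective_pi_localization_of_henselian (A := A) (B := C)).1 ?_
    rw [map_mul, he, ← Pi.single_mul, one_mul]
  rcases IsIdempotentElem.iff_eq_zero_or_one.mp hidem with rfl | rfl
  · rw [map_zero] at he
    exact zero_ne_one (α := Localization.AtPrime n₁.asIdeal) (by simpa using congrFun he n₁)
  · rw [map_one] at he
    exact one_ne_zero (α := Localization.AtPrime n₂.asIdeal)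
      (by simpa [Pi.single_eq_of_ne (Ne.symm hne)] using congrFun he n₂)

theorem isLocalRing_of_integral_domain (A : Type u) [CommRing A] [HenselianLocalRing A] [Algebra A B]
    [Algebra.IsIntegral A B] : IsLocalRing B := by
  obtain ⟨n₁, hn₁⟩ := Ideal.exists_maximal B
  refine IsLocalRing.of_unique_max_ideal ⟨n₁, hn₁, fun n₂ hn₂ => by_contra fun hne => ?_⟩
  obtain ⟨x, hx₂, hx₁⟩ := SetLike.not_le_iff_exists.mp
    (fun hle => hne (hn₂.eq_of_le hn₁.ne_top hle))
  let C := Algebra.adjoin A ({x} : Set B)
  have : Module.Finite A C :=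
    Algebra.finite_adjoin_simple_of_isIntegral (Algebra.IsIntegral.isIntegral x)
  have hint : Algebra.IsIntegral C B := Algebra.IsIntegral.tower_top A
  have := subsingleton_maximalSpectrum (A := A) C
  have h1 := Ideal.isMaximal_comap_of_isIntegral_of_isMaximal (R := C) n₁
  have h2 := Ideal.isMaximal_comap_of_isIntegral_of_isMaximal (R := C) n₂
  have heq : n₁.comap (algebraMap C B) = n₂.comap (algebraMap C B) :=
    congrArg MaximalSpectrum.asIdeal
      (Subsingleton.elim (⟨_, h1⟩ : MaximalSpectrum C) ⟨_, h2⟩)
  exact hx₁ (heq.ge (show (⟨x, Algebra.self_mem_adjoin_singleton A x⟩ : C) ∈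
    n₂.comap (algebraMap C B) from hx₂))

theorem henselian_of_integral_domain :
    ∃ _ : HenselianLocalRing B, IsLocalHom (algebraMap A B) ∧
      (IsSepClosed (ResidueField A) → IsSepClosed (ResidueField B) ∧
        ∀ _ : IsLocalHom (algebraMap A B),
          letI := (ResidueField.map (algebraMap A B)).toAlgebra
          IsPurelyInseparable (ResidueField A) (ResidueField B)) := by
  have : IsLocalRing B := isLocalRing_of_integral_domain A
  have hB : HenselianLocalRing B := Hens.henselianLocalRing_of_isIntegral A B
  have hloc : IsLocalHom (algebraMap A B) := by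
    have hm := Ideal.isMaximal_comap_of_isIntegral_of_isMaximal (R := A) (maximalIdeal B)
    exact ((local_hom_TFAE _).out 4 0 rfl rfl).mp (IsLocalRing.eq_maximalIdeal hm)
  refine ⟨hB, hloc, fun hs => ?_⟩
  let _ := (ResidueField.map (algebraMap A B)).toAlgebra
  have hint : Algebra.IsIntegral (ResidueField A) (ResidueField B) := ⟨fun y => by
    obtain ⟨y, rfl⟩ := residue_surjective y
    obtain ⟨p, hp, hpy⟩ := Algebra.IsIntegral.isIntegral (R := A) y
    refine ⟨p.map (residue A), hp.map _, ?_⟩
    rw [Polynomial.eval₂_map, show (algebraMap (ResidueField A) (ResidueField B)).comp (residue A) =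
      (residue B).comp (algebraMap A B) from RingHom.ext fun a => ResidueField.map_residue _ a,
      ← Polynomial.hom_eval₂, hpy, map_zero]⟩
  have : Algebra.IsAlgebraic (ResidueField A) (ResidueField B) := Algebra.IsIntegral.isAlgebraic
  refine ⟨Hens.isSepClosed_of_isAlgebraic (ResidueField A) (ResidueField B), fun _ => ?_⟩
  refine isPurelyInseparable_iff.mpr fun x => ⟨Algebra.IsIntegral.isIntegral x, fun hx => ?_⟩
  exact minpoly.degree_eq_one_iff.mp (IsSepClosed.degree_eq_one_of_irreducible
    (k := ResidueField A) (minpoly.irreducible (Algebra.IsIntegral.isIntegral x)) hx)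

end Groth.Agent.HensH7
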