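import Groth.Agent.Lib.Hens.PairApi
import Groth.Agent.Lib.Hens.Pair

/-!
Lifting coprime factorizations to an étale neighbourhood of a pair.
-/

open Polynomial

namespace Groth.Agent.HensH7

universe u

open Hens

variable {R : Type u} [CommRing R] {I : Ideal R}

/-- The map from the coordinate ring of a neighbourhood. -/
noncomputable def toPHs (i : PNbhd I) : i.S →ₐ[R] PHs I :=
  (PHs.of i).comp (IsScalarTower.toAlgHom R i.S i.G)

theorem res_toPHs (i : PNbhd I) (s : i.S) : PHs.res (toPHs i s) = i.σ s :=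
  (PHs.res_of i _).trans (i.res_algebraMap s)

theorem toPHs_comp {i j : PNbhd I} (φ : i.S →ₐ[R] j.S) (s : i.S) : toPHs j (φ s) = toPHs i s :=
  congr($(PHs.algHom_eq i ((toPHs j).comp φ) (toPHs i)) s)

theorem exists_finset_toPHs {ι : Type*} (s : Finset ι) (x : ι → PHs I) :
    ∃ i : PNbhd I, ∀ a ∈ s, ∃ y, toPHs i y = x a := by
  classical
  induction s using Finset.induction with
  | empty => exact ⟨Classical.arbitrary _, by simp⟩
  | insert a s _ ih =>
    obtain ⟨i, hi⟩ := ih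
    obtain ⟨j, y, hy⟩ := PHs.exists_of_S (x a)
    obtain ⟨k, φ, ψ, -, -⟩ := PNbhd.exists_upper i j
    refine ⟨k, fun b hb => ?_⟩
    rcases Finset.mem_insert.mp hb with rfl | hb
    · exact ⟨ψ y, by rw [toPHs_comp]; exact hy⟩
    · obtain ⟨z, hz⟩ := hi b hb
      exact ⟨φ z, by rw [toPHs_comp, hz]⟩

theorem exists_kill {ι : Type*} (s : Finset ι) (i : PNbhd I) (x : ι → i.S)
    (hx : ∀ a ∈ s, toPHs i (x a) = 0) :
    ∃ (j : PNbhd I) (ψ : i.S →ₐ[R] j.S), ∀ a ∈ s, ψ (x a) = 0 := by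
  classical
  induction s using Finset.induction with
  | empty => exact ⟨i, AlgHom.id R _, by simp⟩
  | insert a s _ ih =>
    obtain ⟨j, ψ, hψ⟩ := ih fun b hb => hx b (Finset.mem_insert_of_mem hb)
    obtain ⟨k, χ, hχ⟩ := PHs.exists_eq_zero j (ψ (x a))
      ((toPHs_comp ψ (x a)).trans (hx a (Finset.mem_insert_self a s)))
    refine ⟨k, χ.comp ψ, fun b hb => ?_⟩
    rcases Finset.mem_insert.mp hb with rfl | hb
    · exact hχ
    · rw [AlgHom.comp_apply, hψ b hb, map_zero]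

theorem exists_etale_lift_factorization (I : Ideal R) (f : R[X]) (hf : f.Monic) (g h : (R ⧸ I)[X])
    (hgh : f.map (Ideal.Quotient.mk I) = g * h) (hlead : IsUnit g.leadingCoeff)
    (hcop : IsCoprime g h) :
    ∃ (i : PNbhd I) (g' h' : i.S[X]), f.map (algebraMap R i.S) = g' * h' ∧
      g'.map i.σ.toRingHom = g ∧ h'.map i.σ.toRingHom = h := by
  classical
  let P := PHs I
  let J : Ideal P := I.map (algebraMap R P)
  obtain ⟨c, hc⟩ := hlead
  obtain ⟨r, hr⟩ := Ideal.Quotient.mk_surjective (c : R ⧸ I)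
  have hru : IsUnit (algebraMap R P r) := PHs.isUnit_of_res _ (by
    rw [AlgHom.commutes]
    exact ⟨c, hr.symm⟩)
  let g₀ := C ((c⁻¹ : (R ⧸ I)ˣ) : R ⧸ I) * g
  let h₀ := C (c : R ⧸ I) * h
  have hg₀ : g₀.Monic := monic_C_mul_of_mul_leadingCoeff_eq_one (by rw [← hc, Units.inv_mul])
  have hgh₀ : g₀ * h₀ = g * h := by
    rw [show g₀ * h₀ = C ((c⁻¹ : (R ⧸ I)ˣ) : R ⧸ I) * C (c : R ⧸ I) * (g * h) by
      simp only [g₀, h₀]; ring, ← C_mul, Units.inv_mul, C_1, one_mul]
  have hh₀ : h₀.Monic := hg₀.of_mul_monic_left (by rw [hgh₀, ← hgh]; exact hf.map _)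
  let q : R ⧸ I →+* P ⧸ J := Ideal.quotientMap J (algebraMap R P) Ideal.le_comap_map
  obtain ⟨G, H, -, -, hGH, -, hG, hH⟩ := exists_factor_lift PHs.henselianRing (f.map (algebraMap R P))
    (hf.map _) (g₀.map q) (h₀.map q) (hg₀.map _) (hh₀.map _)
    (((isCoprime_mul_unit_left_left (isUnit_C.mpr (Units.isUnit _)) _ _).mpr
      ((isCoprime_mul_unit_left_right (isUnit_C.mpr (Units.isUnit _)) _ _).mpr hcop)).map
        (Polynomial.mapRingHom q))
    (by rw [← Polynomial.map_mul, hgh₀, ← hgh, Polynomial.map_map, Polynomial.map_map]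
        rfl)
  let G' := C (algebraMap R P r) * G
  let H' := C (↑hru.unit⁻¹ : P) * H
  have hGH' : f.map (algebraMap R P) = G' * H' := by
    rw [show G' * H' = C (algebraMap R P r) * C (↑hru.unit⁻¹ : P) * (G * H) by
      simp only [G', H']; ring, ← C_mul, IsUnit.mul_val_inv, C_1, one_mul, hGH]
  have hres : ∀ (p : P[X]) (p₀ : (R ⧸ I)[X]), p.map (Ideal.Quotient.mk J) = p₀.map q →
      p.map (PHs.res : P →ₐ[R] R ⧸ I).toRingHom = p₀ := by
    intro p p₀ hp
    ext n
    obtain ⟨s, hs⟩ := Ideal.Quotient.mk_surjective (p₀.coeff n)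
    have hn := congrArg (fun t => coeff t n) hp
    simp only [coeff_map, ← hs] at hn
    have hmem : p.coeff n - algebraMap R P s ∈ RingHom.ker (PHs.res : P →ₐ[R] R ⧸ I) :=
      PHs.ker_res.ge (Ideal.Quotient.eq.mp hn)
    rw [RingHom.mem_ker, map_sub, AlgHom.commutes, sub_eq_zero] at hmem
    rw [coeff_map, ← hs]
    exact hmem
  have hrc : (PHs.res : P →ₐ[R] R ⧸ I).toRingHom (algebraMap R P r) = c :=
    ((PHs.res : P →ₐ[R] R ⧸ I).commutes r).trans hr
  have hG' : G'.map (PHs.res : P →ₐ[R] R ⧸ I).toRingHom = g := by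
    rw [Polynomial.map_mul, map_C, hrc, hres G g₀ hG, ← mul_assoc, ← C_mul, Units.mul_inv, C_1,
      one_mul]
  have hH' : H'.map (PHs.res : P →ₐ[R] R ⧸ I).toRingHom = h := by
    have hinv : (PHs.res : P →ₐ[R] R ⧸ I).toRingHom (↑hru.unit⁻¹ : P) = (↑c⁻¹ : R ⧸ I) := by
      refine c.isUnit.mul_left_cancel ?_
      rw [Units.mul_inv, ← hrc, ← map_mul, IsUnit.mul_val_inv, map_one]
    rw [Polynomial.map_mul, map_C, hinv, hres H h₀ hH, ← mul_assoc, ← C_mul, Units.inv_mul, C_1,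
      one_mul]
  obtain ⟨i, hi⟩ := exists_finset_toPHs (G'.coeffs ∪ H'.coeffs) id
  have hlift : ∀ p : P[X], p.coeffs ⊆ G'.coeffs ∪ H'.coeffs →
      ∃ p' : i.S[X], p'.map (toPHs i).toRingHom = p := fun p hp => by
    refine (mem_lifts p).mp ((lifts_iff_coeff_lifts p).mpr fun n => ?_)
    rcases eq_or_ne (p.coeff n) 0 with h0 | h0
    · exact ⟨0, by rw [h0, map_zero]⟩
    · exact hi _ (hp (coeff_mem_coeffs h0))
  obtain ⟨G₁, hG₁⟩ := hlift G' Finset.subset_union_left
  obtain ⟨H₁, hH₁⟩ := hlift H' Finset.subset_union_right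
  let d := f.map (algebraMap R i.S) - G₁ * H₁
  obtain ⟨j, ψ, hψ⟩ := exists_kill d.support i d.coeff fun n _ => by
    show (toPHs i).toRingHom (d.coeff n) = 0
    rw [← coeff_map, Polynomial.map_sub, Polynomial.map_mul, hG₁, hH₁, Polynomial.map_map,
      show (toPHs i).toRingHom.comp (algebraMap R i.S) = algebraMap R P from (toPHs i).comp_algebraMap,
      hGH', sub_self, coeff_zero]
  have hσ : j.σ.toRingHom.comp ψ.toRingHom =
      (PHs.res : P →ₐ[R] R ⧸ I).toRingHom.comp (toPHs i).toRingHom := RingHom.ext fun s => by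
    show j.σ (ψ s) = PHs.res (toPHs i s)
    rw [← res_toPHs, toPHs_comp]
  refine ⟨j, G₁.map ψ.toRingHom, H₁.map ψ.toRingHom, ?_, ?_, ?_⟩
  · have h0 : d.map ψ.toRingHom = 0 := by
      ext n
      rw [coeff_map, coeff_zero]
      by_cases hn : n ∈ d.support
      · exact hψ n hn
      · rw [notMem_support_iff.mp hn, map_zero]
    rw [Polynomial.map_sub, Polynomial.map_mul, sub_eq_zero, Polynomial.map_map,
      show ψ.toRingHom.comp (algebraMap R i.S) = algebraMap R j.S from ψ.comp_algebraMap] at h0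
    exact h0
  · rw [Polynomial.map_map, hσ, ← Polynomial.map_map, hG₁, hG']
  · rw [Polynomial.map_map, hσ, ← Polynomial.map_map, hH₁, hH']

end Groth.Agent.HensH7
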