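import Groth.Agent.Lib.Hens.Reduced
import Mathlib.RingTheory.Etale.Basic

/-!
Formal étaleness and nilradical of (strict) henselizations of local rings.
-/

open IsLocalRing

open scoped TensorProduct

namespace Groth.Agent.HensH7

universe u

open Hens

variable {R : Type u} [CommRing R] {K : Type u} [Field K] [Algebra R K]

theorem hs_formallyEtale : Algebra.FormallyEtale R (Hs R K) := by
  refine Algebra.FormallyEtale.iff_comp_bijective.mpr fun B _ _ I hI => ⟨?_, ?_⟩
  · intro f g h
    refine AlgHom.ext fun x => ?_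
    obtain ⟨i, y, rfl⟩ := Hs.exists_of x
    exact congr($((Algebra.FormallyEtale.comp_bijective R i.G I hI).1
      (a₁ := f.comp (Hs.of i)) (a₂ := g.comp (Hs.of i))
      (AlgHom.ext fun z => congr($h (Hs.of i z)))) y)
  · intro f
    choose g hg using fun i : Nbhd R K =>
      (Algebra.FormallyEtale.comp_bijective R i.G I hI).2 (f.comp (Hs.of i))
    have hc : ∀ (i j : Nbhd R K) (h : i ≤ j) (x : i.G), g j (Nbhd.map h x) = g i x := fun i j h x =>
      congr($((Algebra.FormallyEtale.comp_bijective R i.G I hI).1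
        (a₁ := (g j).comp (Nbhd.map h)) (a₂ := g i) (AlgHom.ext fun z => by
          show ((Ideal.Quotient.mkₐ R I).comp (g j)) (Nbhd.map h z) =
            ((Ideal.Quotient.mkₐ R I).comp (g i)) z
          rw [hg, hg, AlgHom.comp_apply, AlgHom.comp_apply, Hs.of_map])) x)
    refine ⟨DirectLimit.Algebra.lift (fun i : Nbhd R K => i.G)
      (fun i j h => Nbhd.map (i := i) (j := j) h) B g hc, AlgHom.ext fun x => ?_⟩
    obtain ⟨i, y, rfl⟩ := Hs.exists_of x
    exact congr($(hg i) y)

theorem hs_nilradical : nilradical (Hs R K) ≤ (nilradical R).map (algebraMap R (Hs R K)) := by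
  intro x hx
  obtain ⟨n, hn⟩ := mem_nilradical.mp hx
  obtain ⟨i, y, rfl⟩ := Hs.exists_of x
  rw [← map_pow, ← map_zero (Hs.of i)] at hn
  obtain ⟨k, hi, hi', hk⟩ := Hs.of_eq_of_iff.mp hn
  rw [map_pow, map_zero] at hk
  rw [← Hs.of_map hi]
  generalize Nbhd.map hi y = z at hk ⊢
  suffices hz : z ∈ (nilradical R).map (algebraMap R k.G) by
    have h := Ideal.mem_map_of_mem (Hs.of k).toRingHom hz
    rw [Ideal.map_map, show (Hs.of k).toRingHom.comp (algebraMap R k.G) = algebraMap R (Hs R K) from
      (Hs.of k).comp_algebraMap] at h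
    exact h
  obtain ⟨s, t, rfl⟩ := IsLocalization.exists_mk'_eq k.q.primeCompl z
  rw [← IsLocalization.mk'_pow, IsLocalization.mk'_eq_zero_iff] at hk
  obtain ⟨c, hc⟩ := hk
  let N := nilradical R
  have : IsReduced (R ⧸ N) :=
    (Ideal.isRadical_iff_quotient_reduced N).mp (Ideal.radical_isRadical _)
  have : Algebra.Etale (R ⧸ N) (k.S ⧸ N.map (algebraMap R k.S)) :=
    Algebra.Etale.of_equiv (Algebra.TensorProduct.quotIdealMapEquivQuotTensor k.S N).symm
  have := isReduced_of_etale (R ⧸ N) (k.S ⧸ N.map (algebraMap R k.S))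
  rw [IsScalarTower.algebraMap_eq R k.S k.G, ← Ideal.map_map]
  refine (IsLocalization.mk'_mem_map_algebraMap_iff k.q.primeCompl k.G _ s t).mpr ⟨c, c.2, ?_⟩
  rw [← Ideal.Quotient.eq_zero_iff_mem]
  refine IsNilpotent.eq_zero ⟨n + 1, ?_⟩
  rw [← map_pow, mul_pow, pow_succ (c : k.S), pow_succ s,
    show (c : k.S) ^ n * c * (s ^ n * s) = (c : k.S) ^ n * s * ((c : k.S) * s ^ n) by ring, hc,
    mul_zero, map_zero]

variable (R : Type u) (S : Type u) [CommRing R] [IsLocalRing R] [CommRing S] [IsLocalRing S]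
  [Algebra R S] [IsLocalHom (algebraMap R S)]

theorem exists_hs_equiv (h : Hensel.IsHenselization R S ∨ Hensel.IsStrictHenselization R S) :
    ∃ (K : Type u) (_ : Field K) (_ : Algebra R K), Nonempty (Hs R K ≃ₐ[R] S) := by
  rcases h with h | h
  · exact ⟨_, _, _, exists_henselization_equiv R S⟩
  · exact ⟨_, _, _, exists_strictHenselization_equiv R S⟩

theorem formallyEtale_of_henselization
    (h : Hensel.IsHenselization R S ∨ Hensel.IsStrictHenselization R S) :
    Algebra.FormallyEtale R S := by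
  obtain ⟨K, _, _, ⟨e⟩⟩ := exists_hs_equiv R S h
  have := hs_formallyEtale (R := R) (K := K)
  exact Algebra.FormallyEtale.of_equiv e

theorem nilradical_map_henselization
    (h : Hensel.IsHenselization R S ∨ Hensel.IsStrictHenselization R S) :
    (nilradical R).map (algebraMap R S) = nilradical S := by
  obtain ⟨K, _, _, ⟨e⟩⟩ := exists_hs_equiv R S h
  refine le_antisymm (Ideal.map_le_iff_le_comap.mpr fun r hr =>
    mem_nilradical.mpr ((mem_nilradical.mp hr).map _)) fun x hx => ?_
  have h1 := Ideal.mem_map_of_mem e.toAlgHom.toRingHom (hs_nilradical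
    (mem_nilradical.mpr ((mem_nilradical.mp hx).map e.symm)))
  rw [Ideal.map_map, show e.toAlgHom.toRingHom.comp (algebraMap R (Hs R K)) = algebraMap R S from
    e.toAlgHom.comp_algebraMap] at h1
  rwa [show e.toAlgHom.toRingHom (e.symm x) = x from e.apply_symm_apply x] at h1

end Groth.Agent.HensH7
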