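import Groth.Agent.Lib.Hens.PairApi
import Groth.Agent.Lib.Hens.Henselization
import Groth.Agent.Lib.Hens.Local
import Groth.Agent.Lib.HensSchH7.Alg
import Mathlib.RingTheory.Idempotents
import Mathlib.RingTheory.Ideal.Quotient.Operations

/-!
Pair henselizations of local rings and products of pairs.
-/

open IsLocalRing

namespace Groth.Agent.HensH7

universe u

variable {A : Type u} [CommRing A]

theorem map_maximalIdeal_isMaximal [IsLocalRing A] {B : Type u} [CommRing B] [Algebra A B]
    (hB : Hens2.IsPairHenselization A (maximalIdeal A) B) :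
    ((maximalIdeal A).map (algebraMap A B)).IsMaximal := by
  have hb := Hens.IsPairHenselization.quotientMap_bijective hB (maximalIdeal A) Ideal.le_radical
  exact Ideal.Quotient.maximal_of_isField _ ((RingEquiv.ofBijective _ hb).symm.toMulEquiv.isField
    ((Ideal.Quotient.maximal_ideal_iff_isField_quotient _).mp inferInstance))

theorem eq_map_of_isMaximal [IsLocalRing A] {B : Type u} [CommRing B] [Algebra A B]
    (hB : Hens2.IsPairHenselization A (maximalIdeal A) B) (M : Ideal B) (hM : M.IsMaximal) :
    M = (maximalIdeal A).map (algebraMap A B) :=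
  ((map_maximalIdeal_isMaximal hB).eq_of_le hM.ne_top
    (hB.1.jac.trans (sInf_le ⟨bot_le, hM⟩))).symm

theorem isLocalRing_of_pair [IsLocalRing A] {B : Type u} [CommRing B] [Algebra A B]
    (hB : Hens2.IsPairHenselization A (maximalIdeal A) B) : IsLocalRing B :=
  IsLocalRing.of_unique_max_ideal ⟨_, map_maximalIdeal_isMaximal hB, eq_map_of_isMaximal hB⟩

theorem isHenselization_of_pair [IsLocalRing A] {B : Type u} [CommRing B] [Algebra A B]
    [IsLocalRing B] [IsLocalHom (algebraMap A B)]
    (hB : Hens2.IsPairHenselization A (maximalIdeal A) B) : Hensel.IsHenselization A B where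
  henselian := by
    refine Hens.henselianLocalRing_iff.mpr ?_
    rw [← IsLocalRing.eq_maximalIdeal (map_maximalIdeal_isMaximal hB)]
    exact hB.1
  universal T _ _ f hf :=
    hB.2 T (maximalIdeal T) f (Hens.henselianRing_maximalIdeal T)
      (((local_hom_TFAE f).out 0 2 rfl rfl).mp hf)

theorem isPairHenselization_congr {I : Ideal A} {B B' : Type u} [CommRing B] [Algebra A B]
    [CommRing B'] [Algebra A B'] (e : B ≃ₐ[A] B') (hB : Hens2.IsPairHenselization A I B) :
    Hens2.IsPairHenselization A I B' := by
  refine ⟨?_, fun C _ J f hC hf => ?_⟩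
  · have h := HensSchH7.henselianRing_equiv e.symm.toRingEquiv hB.1
    rwa [show (I.map (algebraMap A B)).comap e.symm.toRingEquiv.toRingHom =
        I.map (algebraMap A B') from by
      rw [show (I.map (algebraMap A B)).comap e.symm.toRingEquiv.toRingHom =
          (I.map (algebraMap A B)).comap e.toRingEquiv.symm from rfl,
        Ideal.comap_symm, show (I.map (algebraMap A B)).map e.toRingEquiv =
          (I.map (algebraMap A B)).map e.toAlgHom.toRingHom from rfl, Ideal.map_map]
      congr 1
      exact e.toAlgHom.comp_algebraMap] at h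
  · obtain ⟨g, hg, hu⟩ := hB.2 C J f hC hf
    refine ⟨g.comp e.symm.toRingEquiv.toRingHom, RingHom.ext fun a => ?_, fun g' hg' => ?_⟩
    · show g (e.symm (algebraMap A B' a)) = f a
      rw [e.symm.commutes]
      exact congr($hg a)
    · have := hu (g'.comp e.toRingEquiv.toRingHom) (RingHom.ext fun a => by
        show g' (e (algebraMap A B a)) = f a
        rw [e.commutes]
        exact congr($hg' a))
      refine RingHom.ext fun x => ?_
      show g' x = g (e.symm x)
      rw [← this]
      exact congrArg g' (e.apply_symm_apply x).symm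

theorem pair_of_isHenselization [IsLocalRing A] {B : Type u} [CommRing B] [Algebra A B]
    [IsLocalRing B] [IsLocalHom (algebraMap A B)] [Hensel.IsHenselization A B] :
    Hens2.IsPairHenselization A (maximalIdeal A) B := by
  have hP := Hens.PHs.isPairHenselization (R := A) (I := maximalIdeal A)
  have : IsLocalRing (Hens.PHs (maximalIdeal A)) := isLocalRing_of_pair hP
  have : IsLocalHom (algebraMap A (Hens.PHs (maximalIdeal A))) :=
    ((local_hom_TFAE _).out 2 0 rfl rfl).mp
      (IsLocalRing.eq_maximalIdeal (map_maximalIdeal_isMaximal hP)).le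
  have := isHenselization_of_pair hP
  obtain ⟨e⟩ := Hens.exists_henselization_equiv A B
  obtain ⟨e'⟩ := Hens.exists_henselization_equiv A (Hens.PHs (maximalIdeal A))
  exact isPairHenselization_congr (e'.symm.trans e) hP

section CRT

variable {n : ℕ} (I : Fin n → Ideal A)

theorem crt_equiv (hI : Pairwise fun i j => I i ⊔ I j = ⊤) (B : Type u) [CommRing B] [Algebra A B]
    (hB : Hens2.IsPairHenselization A (⨅ i, I i) B) (Bi : Fin n → Type u) [∀ i, CommRing (Bi i)]
    [∀ i, Algebra A (Bi i)] (hBi : ∀ i, Hens2.IsPairHenselization A (I i) (Bi i)) :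
    Nonempty (B ≃ₐ[A] ∀ i, Bi i) := by
  classical
  set I₀ := ⨅ i, I i
  let e₀ := Ideal.quotientInfRingEquivPiQuotient I fun i j h => Ideal.isCoprime_iff_sup_eq.mpr (hI h)
  have hone : ∀ i, ∃ a : A, ∀ j, a - (if j = i then 1 else 0) ∈ I j := by
    intro i
    obtain ⟨a, ha⟩ := Ideal.Quotient.mk_surjective
      (e₀.symm (fun j => if j = i then 1 else 0))
    refine ⟨a, fun j => ?_⟩
    have h2 := congr(e₀ $ha j)
    rw [e₀.apply_symm_apply] at h2
    have h3 : Ideal.Quotient.mk (I j) a = if j = i then 1 else 0 := h2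
    rw [← Ideal.Quotient.eq_zero_iff_mem, map_sub, h3]
    split <;> simp
  choose a ha using hone
  let q : A →+* B ⧸ I₀.map (algebraMap A B) :=
    (Ideal.Quotient.mk _).comp (algebraMap A B)
  have hq : ∀ x : A, (∀ j, x ∈ I j) → q x = 0 := fun x hx =>
    Ideal.Quotient.eq_zero_iff_mem.mpr (Ideal.mem_map_of_mem _ (Ideal.mem_iInf.mpr hx))
  have hidem : ∀ i, IsIdempotentElem (q (a i)) := fun i => by
    refine sub_eq_zero.mp ?_
    rw [← map_mul, ← map_sub]
    refine hq _ fun j => ?_
    have := ha i j
    rw [← Ideal.Quotient.eq_zero_iff_mem] at this ⊢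
    rw [map_sub, sub_eq_zero] at this
    rw [map_sub, map_mul, this]
    split <;> simp
  have hmap : (I₀.map (algebraMap A B)).map (algebraMap B B) = I₀.map (algebraMap A B) := by
    rw [Algebra.algebraMap_self, Ideal.map_id]
  choose e he heq using fun i => (Hens.bijOn_idempotents (B := B) hB.1).2.2
    (show Ideal.Quotient.mk ((I₀.map (algebraMap A B)).map (algebraMap B B)) (algebraMap A B (a i))
      ∈ {x | IsIdempotentElem x} from by
      exact (hidem i).map (Ideal.Quotient.factor hmap.ge))
  have heq' : ∀ i, e i - algebraMap A B (a i) ∈ I₀.map (algebraMap A B) := fun i =>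
    hmap ▸ Ideal.Quotient.eq.mp (heq i)
  have hqe : ∀ i, Ideal.Quotient.mk _ (e i) = q (a i) := fun i => Ideal.Quotient.eq.mpr (heq' i)
  have huniq : ∀ x y : B, IsIdempotentElem x → IsIdempotentElem y →
      Ideal.Quotient.mk (I₀.map (algebraMap A B)) x = Ideal.Quotient.mk _ y → x = y :=
    fun x y hx hy h => Hens.idempotent_eq_of_sub_mem hB.1.jac hx hy (Ideal.Quotient.eq.mp h)
  have hcoi : CompleteOrthogonalIdempotents e := by
    have ho : OrthogonalIdempotents e := ⟨he, fun i j hij => by
      refine huniq _ 0 ((he i).mul (he j)) IsIdempotentElem.zero ?_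
      rw [map_mul, hqe, hqe, map_zero, ← map_mul]
      refine hq _ fun k => ?_
      have h1 := ha i k
      have h2 := ha j k
      rw [← Ideal.Quotient.eq_zero_iff_mem] at h1 h2 ⊢
      rw [map_sub, sub_eq_zero] at h1 h2
      rw [map_mul, h1, h2]
      split <;> split <;> simp_all⟩
    refine ⟨ho, huniq _ 1 ho.isIdempotentElem_sum IsIdempotentElem.one ?_⟩
    rw [map_sum, map_one, Finset.sum_congr rfl fun i _ => hqe i, ← map_sum, ← sub_eq_zero,
      ← map_one q, ← map_sub]
    refine hq _ fun k => ?_
    rw [← Ideal.Quotient.eq_zero_iff_mem, map_sub, map_sum, map_one, sub_eq_zero,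
      Finset.sum_eq_single k]
    · have := ha k k
      rw [if_pos rfl, ← Ideal.Quotient.eq_zero_iff_mem, map_sub, sub_eq_zero, map_one] at this
      exact this
    · intro b _ hb
      have := ha b k
      rw [if_neg (Ne.symm hb), sub_zero, ← Ideal.Quotient.eq_zero_iff_mem] at this
      exact this
    · simp
  let D : Fin n → Type u := fun i => B ⧸ Ideal.span {1 - e i}
  have hD : ∀ i, Hens2.IsPairHenselization A (I i) (D i) := by
    intro i
    have hint : Algebra.IsIntegral B (D i) :=
      ⟨fun x => by
        obtain ⟨y, rfl⟩ := Ideal.Quotient.mk_surjective x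
        exact isIntegral_algebraMap⟩
    have hH : HenselianRing (D i) (I₀.map (algebraMap A (D i))) := by
      have := Hens.henselianRing_of_isIntegral (B := D i) hB.1
      rwa [Ideal.map_map, ← IsScalarTower.algebraMap_eq] at this
    have hi : I₀.map (algebraMap A (D i)) = (I i).map (algebraMap A (D i)) := by
      refine le_antisymm (Ideal.map_mono (iInf_le I i)) (Ideal.map_le_iff_le_comap.mpr fun x hx => ?_)
      have hai : IsUnit (algebraMap A (D i) (a i)) := by
        refine Hens.isUnit_of_isUnit_mk hH.jac ?_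
        have h1 : algebraMap A (D i) (a i) - 1 ∈ I₀.map (algebraMap A (D i)) := by
          have := Ideal.mem_map_of_mem (algebraMap B (D i)) (heq' i)
          rw [Ideal.map_map, ← IsScalarTower.algebraMap_eq, map_sub,
            show algebraMap B (D i) (e i) = 1 from (Ideal.Quotient.eq.mpr
              (Ideal.mem_span_singleton_self _)).symm.trans (map_one _),
            ← IsScalarTower.algebraMap_apply] at this
          simpa using neg_mem this
        rw [Ideal.Quotient.eq.mpr h1, map_one]
        exact isUnit_one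
      show algebraMap A (D i) x ∈ I₀.map (algebraMap A (D i))
      refine (Ideal.mul_unit_mem_iff_mem _ hai).mp ?_
      rw [← map_mul]
      refine Ideal.mem_map_of_mem _ (Ideal.mem_iInf.mpr fun j => ?_)
      rcases eq_or_ne j i with rfl | hji
      · exact Ideal.mul_mem_right _ _ hx
      · have := ha i j
        rw [if_neg hji, sub_zero] at this
        exact Ideal.mul_mem_left _ _ this
    refine ⟨hi ▸ hH, fun C _ J f hC hf => ?_⟩
    obtain ⟨g, hg, hu⟩ := hB.2 C J f hC ((Ideal.map_mono (iInf_le I i)).trans hf)
    have hIJ : ∀ x ∈ I i, Ideal.Quotient.mk J (f x) = 0 := fun x hx =>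
      Ideal.Quotient.eq_zero_iff_mem.mpr (hf (Ideal.mem_map_of_mem _ hx))
    have hge : g (e i) = 1 := by
      refine Hens.idempotent_eq_of_sub_mem hC.jac ((he i).map g) IsIdempotentElem.one ?_
      have h1 : g (e i - algebraMap A B (a i)) ∈ J := by
        refine hf.trans' ?_ (Ideal.mem_map_of_mem g (heq' i))
        rw [Ideal.map_map, hg]
        exact Ideal.map_mono (iInf_le I i)
      have h2 := hIJ _ (ha i i)
      rw [if_pos rfl, map_sub, map_one, Ideal.Quotient.eq_zero_iff_mem] at h2
      rw [map_sub, show g (algebraMap A B (a i)) = f (a i) from congr($hg (a i))] at h1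
      simpa using add_mem h1 h2
    refine ⟨Ideal.Quotient.lift _ g fun x hx => ?_, RingHom.ext fun x => congr($hg x),
      fun g' hg' => Ideal.Quotient.ringHom_ext ?_⟩
    · obtain ⟨y, rfl⟩ := Ideal.mem_span_singleton'.mp hx
      simp [hge]
    · exact (hu (g'.comp (Ideal.Quotient.mk _)) (RingHom.ext fun x => congr($hg' x))).trans
        (RingHom.ext fun x => rfl)
  obtain ⟨d⟩ : Nonempty (∀ i, D i ≃ₐ[A] Bi i) := ⟨fun i =>
    ((Hens.exists_pairHenselization_equiv (I i) (D i) (hD i)).some).symm.trans
      (Hens.exists_pairHenselization_equiv (I i) (Bi i) (hBi i)).some⟩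
  exact ⟨(AlgEquiv.ofBijective (AlgHom.pi fun i => Ideal.Quotient.mkₐ A (Ideal.span {1 - e i}))
    hcoi.bijective_pi).trans (AlgEquiv.piCongrRight d)⟩

end CRT

end Groth.Agent.HensH7
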